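import Mathlib

/-!
# A group acting by conjugation, fixed-point-freely, on an invariant subgroup: `|H| ∣ |L| - 1`
(for helper90's project S3043)
-/

set_option autoImplicit false

namespace Cfsg.Agent.Lib.Helper36.TIInv

variable {G : Type*} [Group G]

/-- the non-identity elements of `L` -/
abbrev NonOne (L : Subgroup G) : Type _ := {x : G // x ∈ L ∧ x ≠ 1}

/-- conjugation action of `H` on the non-identity elements of an `H`-invariant subgroup `L` -/
@[reducible] def conjAct (H L : Subgroup G) (hnorm : ∀ k ∈ H, ∀ x ∈ L, k * x * k⁻¹ ∈ L) :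
    MulAction ↥H (NonOne L) where
  smul k x := ⟨(k : G) * x.1 * (k : G)⁻¹, hnorm k k.2 x.1 x.2.1, by
    intro h
    apply x.2.2
    have : x.1 = (k : G)⁻¹ * ((k : G) * x.1 * (k : G)⁻¹) * (k : G) := by group
    rw [this, h]
    group⟩
  one_smul x := by
    apply Subtype.ext
    show ((1 : ↥H) : G) * x.1 * ((1 : ↥H) : G)⁻¹ = x.1
    rw [Subgroup.coe_one, one_mul, inv_one, mul_one]
  mul_smul k k' x := by
    apply Subtype.ext
    show ((k * k' : ↥H) : G) * x.1 * ((k * k' : ↥H) : G)⁻¹ =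
      (k : G) * ((k' : G) * x.1 * (k' : G)⁻¹) * (k : G)⁻¹
    rw [Subgroup.coe_mul]
    group

theorem card_nonOne [Finite G] (L : Subgroup G) : Nat.card (NonOne L) = Nat.card L - 1 := by
  classical
  have e : NonOne L ≃ {y : ↥L // y ≠ 1} :=
    { toFun := fun x => ⟨⟨x.1, x.2.1⟩, fun h => x.2.2 (congrArg Subtype.val h)⟩
      invFun := fun y => ⟨y.1.1, y.1.2, fun h => y.2 (Subtype.ext h)⟩
      left_inv := fun x => rfl
      right_inv := fun y => rfl }
  rw [Nat.card_congr e]
  have := Fintype.ofFinite ↥L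
  rw [Nat.card_eq_fintype_card, Nat.card_eq_fintype_card, Fintype.card_subtype_compl,
    Fintype.card_subtype_eq]

/-- **semiregular action**: `|H|` divides `|L| - 1` -/
theorem semireg_dvd [Finite G] (H L : Subgroup G)
    (hnorm : ∀ k ∈ H, ∀ x ∈ L, k * x * k⁻¹ ∈ L)
    (hfree : ∀ x ∈ L, x ≠ 1 → ∀ k ∈ H, k * x = x * k → k = 1) :
    Nat.card H ∣ Nat.card L - 1 := by
  classical
  let _inst : MulAction ↥H (NonOne L) := conjAct H L hnorm
  have hstab : ∀ x : NonOne L, MulAction.stabilizer ↥H x = ⊥ := by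
    intro x
    rw [Subgroup.eq_bot_iff_forall]
    intro k hk
    rw [MulAction.mem_stabilizer_iff] at hk
    have h1 : (k : G) * x.1 * (k : G)⁻¹ = x.1 := congrArg Subtype.val hk
    have h2 : (k : G) * x.1 = x.1 * (k : G) := by
      calc (k : G) * x.1 = ((k : G) * x.1 * (k : G)⁻¹) * (k : G) := by group
        _ = x.1 * (k : G) := by rw [h1]
    exact Subtype.ext (hfree x.1 x.2.1 x.2.2 k k.2 h2)
  have e := MulAction.selfEquivOrbitsQuotientProd hstab
  have hc : Nat.card (NonOne L) =
      Nat.card (Quotient (MulAction.orbitRel ↥H (NonOne L))) * Nat.card ↥H := by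
    rw [Nat.card_congr e, Nat.card_prod]
  rw [← card_nonOne, hc]
  exact Dvd.intro_left _ rfl

end Cfsg.Agent.Lib.Helper36.TIInv
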