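import Mathlib
import Cfsg.Agent.Lib.Helper90.TIInvDefs
import Cfsg.Agent.Lib.Helper36.TIInv.Semireg

/-!
# S3043 modules [A1r] `reg`, [A3] `eps`, [A4] `elemAb` (for helper90)
-/

set_option autoImplicit false

namespace Cfsg.Agent.Lib.Helper36.TIInv

open Cfsg.Agent.Lib.Helper90.TIInv

variable {G : Type*} [Group G] [Finite G] {M : Subgroup G} {z : G}

/-- [A1r] -/
theorem reg (s : Semi M) (hidx : (Nm M).index = Nat.card M + 1) : Reg M := by
  classical
  intro g g' hg hg'
  have hMN : M ≤ Nm M := Subgroup.le_normalizer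
  have hne : ∀ (a : ↥M) (g₀ : G), g₀ ∉ Nm M →
      (QuotientGroup.mk ((a : G) * g₀) : G ⧸ Nm M) ≠ QuotientGroup.mk 1 := by
    intro a g₀ hg₀ h
    rw [QuotientGroup.eq] at h
    apply hg₀
    have h1 : ((a : G) * g₀)⁻¹ ∈ Nm M := by simpa using h
    have h2 : (a : G) * g₀ ∈ Nm M := by
      have := (Nm M).inv_mem h1
      simpa using this
    have h3 : g₀ = (a : G)⁻¹ * ((a : G) * g₀) := by group
    rw [h3]
    exact (Nm M).mul_mem ((Nm M).inv_mem (hMN a.2)) h2
  set f : ↥M → {c : G ⧸ Nm M // c ≠ QuotientGroup.mk 1} :=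
    fun a => ⟨QuotientGroup.mk ((a : G) * g), hne a g hg⟩ with hf
  have hinj : Function.Injective f := by
    intro a b hab
    have h1 : (QuotientGroup.mk ((a : G) * g) : G ⧸ Nm M) = QuotientGroup.mk ((b : G) * g) :=
      congrArg Subtype.val hab
    rw [QuotientGroup.eq] at h1
    -- `(a g)⁻¹ (b g) = g⁻¹ (a⁻¹ b) g ∈ N`
    have h2 : (a : G)⁻¹ * (b : G) ∈ cj g (Nm M) := by
      refine ⟨((a : G) * g)⁻¹ * ((b : G) * g), h1, ?_⟩
      show g * (((a : G) * g)⁻¹ * ((b : G) * g)) * g⁻¹ = _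
      group
    have h3 : (a : G)⁻¹ * (b : G) ∈ M ⊓ cj g (Nm M) :=
      ⟨M.mul_mem (M.inv_mem a.2) b.2, h2⟩
    rw [s g hg, Subgroup.mem_bot] at h3
    apply Subtype.ext
    calc (a : G) = (a : G) * ((a : G)⁻¹ * (b : G)) := by rw [h3, mul_one]
      _ = (b : G) := by group
  have hcard : Nat.card {c : G ⧸ Nm M // c ≠ QuotientGroup.mk 1} = Nat.card ↥M := by
    have := Fintype.ofFinite (G ⧸ Nm M)
    rw [Nat.card_eq_fintype_card, Fintype.card_subtype_compl, Fintype.card_subtype_eq,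
      ← Nat.card_eq_fintype_card]
    have : Nat.card (G ⧸ Nm M) = (Nm M).index := rfl
    rw [this, hidx]
    omega
  have hbij := hinj.bijective_of_nat_card_le (le_of_eq hcard)
  obtain ⟨a, ha⟩ := hbij.2 ⟨QuotientGroup.mk g', by
    have := hne (1 : ↥M) g' hg'
    simpa using this⟩
  refine ⟨(a : G), a.2, ?_⟩
  have h1 : (QuotientGroup.mk ((a : G) * g) : G ⧸ Nm M) = QuotientGroup.mk g' :=
    congrArg Subtype.val ha
  rw [QuotientGroup.eq] at h1
  exact h1

/-- `H` normalises `M`, and the hypotheses of `semireg_dvd` for an `H`-invariant `L ≤ M` -/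
theorem card_H_dvd (fr : Frob M z) (L : Subgroup G) (hL : L ≤ M)
    (hnorm : ∀ k ∈ Hz M z, ∀ x ∈ L, k * x * k⁻¹ ∈ L) :
    Nat.card ↥(Hz M z) ∣ Nat.card ↥L - 1 :=
  semireg_dvd (Hz M z) L hnorm (fun x hx hx1 k hk hkx => fr x (hL hx) hx1 k hk hkx)

omit [Finite G] in
theorem H_normalizes_M : ∀ k ∈ Hz M z, ∀ x ∈ M, k * x * k⁻¹ ∈ M := by
  intro k hk x hx
  have hkN : k ∈ Nm M := hk.1
  exact (Subgroup.mem_normalizer_iff.mp hkN x).mp hx

/-- [A3] -/
theorem eps (h : Hyp M z) (b : Basic M z) (fr : Frob M z) (hA : CaseA M z) (ie : IndexEq M z)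
    (ic : InvCount M z) :
    Nat.card M = Nat.card (Hz M z) + 1 ∨ Nat.card M = 2 * Nat.card (Hz M z) + 1 := by
  classical
  set m := Nat.card ↥M with hm
  set hh := Nat.card ↥(Hz M z) with hhh
  set n := (Nm M).index with hn
  set J := Nat.card {g : G // orderOf g = 2} with hJ
  have hhpos : 0 < hh := Nat.card_pos
  have hmpos : 0 < m := Nat.card_pos
  -- `m ≥ 3`
  have hm1 : m ≠ 1 := by
    intro h1
    exact h.ne ((Subgroup.card_eq_one).mp h1)
  have hmodd : Odd m := b.oddM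
  have hm3 : 3 ≤ m := by
    rcases hmodd with ⟨k, hk⟩
    omega
  -- `n = m + 1`
  have hA' : Nat.card ↥(Cz z) = 2 * hh := hA
  have ie' : n * hh + m * hh = hh + Nat.card ↥(Cz z) * m := ie
  rw [hA'] at ie'
  have hn1 : n = m + 1 := by
    have h1 : (n + m) * hh = (1 + 2 * m) * hh := by ring_nf; ring_nf at ie'; linarith
    have := Nat.eq_of_mul_eq_mul_right hhpos h1
    omega
  -- `J = m (h + 1)`
  have ic' : J + hh = m + hh * n := ic
  have hJ1 : J = m * (hh + 1) := by
    rw [hn1] at ic'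
    have : J + hh = m * (hh + 1) + hh := by ring_nf; ring_nf at ic'; linarith
    omega
  -- class of `z`
  have hzinv : ∀ g : G, orderOf (g * z * g⁻¹) = 2 := by
    intro g
    have : g * z * g⁻¹ = MulAut.conj g z := rfl
    rw [this, MulEquiv.orderOf_eq]
    exact h.hz
  set φ : G ⧸ Cz z → {g : G // orderOf g = 2} :=
    Quotient.lift (fun g : G => (⟨g * z * g⁻¹, hzinv g⟩ : {g : G // orderOf g = 2})) (by
      intro a b hab
      apply Subtype.ext
      have h1 : a⁻¹ * b ∈ Cz z := QuotientGroup.leftRel_apply.mp hab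
      have h2 := Subgroup.mem_centralizer_singleton_iff.mp h1
      show a * z * a⁻¹ = b * z * b⁻¹
      have h3 : b = a * (a⁻¹ * b) := by group
      rw [h3]
      calc a * z * a⁻¹ = a * (z * (a⁻¹ * b) * (a⁻¹ * b)⁻¹) * a⁻¹ := by group
        _ = a * ((a⁻¹ * b) * z * (a⁻¹ * b)⁻¹) * a⁻¹ := by rw [h2]
        _ = a * (a⁻¹ * b) * z * (a * (a⁻¹ * b))⁻¹ := by group) with hφ
  have hφinj : Function.Injective φ := by
    intro x y hxy
    induction x using QuotientGroup.induction_on with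
    | H a =>
      induction y using QuotientGroup.induction_on with
      | H b =>
        have h1 : a * z * a⁻¹ = b * z * b⁻¹ := congrArg Subtype.val hxy
        rw [QuotientGroup.eq, Subgroup.mem_centralizer_singleton_iff]
        calc (a⁻¹ * b) * z = a⁻¹ * (b * z * b⁻¹) * b := by group
          _ = a⁻¹ * (a * z * a⁻¹) * b := by rw [h1]
          _ = z * (a⁻¹ * b) := by group
  have hidxle : (Cz z).index ≤ J := by
    have := Nat.card_le_card_of_injective φ hφinj
    exact this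
  -- orders
  have hG1 : Nat.card ↥(Cz z) * (Cz z).index = Nat.card G := Subgroup.card_mul_index _
  have hG2 : Nat.card ↥(Nm M) * n = Nat.card G := Subgroup.card_mul_index _
  rw [b.cardN] at hG2
  have hkey : 2 * hh * (Cz z).index = m * hh * (m + 1) := by
    rw [← hA', hG1, ← hG2, hn1]
  have hkey2 : 2 * (Cz z).index = m * (m + 1) := by
    have : hh * (2 * (Cz z).index) = hh * (m * (m + 1)) := by ring_nf; ring_nf at hkey; linarith
    exact Nat.eq_of_mul_eq_mul_left hhpos this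
  have hle : m * (m + 1) ≤ 2 * (m * (hh + 1)) := by
    rw [← hkey2, ← hJ1]
    omega
  have hle2 : m + 1 ≤ 2 * (hh + 1) := by
    have : m * (m + 1) ≤ m * (2 * (hh + 1)) := by ring_nf; ring_nf at hle; linarith
    exact Nat.le_of_mul_le_mul_left this hmpos
  -- `h ∣ m - 1`
  obtain ⟨k, hk⟩ := card_H_dvd fr M le_rfl H_normalizes_M
  have hk' : m - 1 = hh * k := hk
  have hk0 : k ≠ 0 := by
    intro h0
    rw [h0, mul_zero] at hk'
    omega
  have hk2 : k ≤ 2 := by
    by_contra hcon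
    have h3 : 3 ≤ k := by omega
    have : hh * 3 ≤ hh * k := Nat.mul_le_mul_left _ h3
    omega
  have hk12 : k = 1 ∨ k = 2 := by omega
  rcases hk12 with h1 | h1
  · left
    rw [h1, mul_one] at hk'
    omega
  · right
    rw [h1] at hk'
    omega

/-- [A4] -/
theorem elemAb (h : Hyp M z) (b : Basic M z) (fr : Frob M z)
    (ep : Nat.card M = Nat.card (Hz M z) + 1 ∨ Nat.card M = 2 * Nat.card (Hz M z) + 1) :
    ∃ p r : ℕ, p.Prime ∧ (∀ x ∈ M, x ^ p = 1) ∧ Nat.card M = p ^ r := by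
  classical
  set m := Nat.card ↥M with hm
  set hh := Nat.card ↥(Hz M z) with hhh
  have hhpos : 0 < hh := Nat.card_pos
  have hm1 : m ≠ 1 := by
    intro h1
    exact h.ne ((Subgroup.card_eq_one).mp h1)
  obtain ⟨p, hp, hpm⟩ := Nat.exists_prime_and_dvd hm1
  have : Fact p.Prime := ⟨hp⟩
  -- the subgroup `M[p]`
  set L : Subgroup G :=
    { carrier := {x | x ∈ M ∧ x ^ p = 1}
      one_mem' := ⟨M.one_mem, one_pow _⟩
      mul_mem' := by
        rintro x y ⟨hx, hxp⟩ ⟨hy, hyp⟩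
        refine ⟨M.mul_mem hx hy, ?_⟩
        have hc : Commute x y := b.comm x hx y hy
        rw [hc.mul_pow, hxp, hyp, one_mul]
      inv_mem' := by
        rintro x ⟨hx, hxp⟩
        exact ⟨M.inv_mem hx, by rw [inv_pow, hxp, inv_one]⟩ } with hLdef
  have hLM : L ≤ M := fun x hx => hx.1
  have hLne : L ≠ ⊥ := by
    obtain ⟨x, hx⟩ := exists_prime_orderOf_dvd_card' (G := ↥M) p hpm
    intro hbot
    have hxL : (x : G) ∈ L := by
      refine ⟨x.2, ?_⟩
      have : x ^ p = 1 := by rw [← hx]; exact pow_orderOf_eq_one x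
      have h2 := congrArg (fun y : ↥M => (y : G)) this
      simpa using h2
    rw [hbot, Subgroup.mem_bot] at hxL
    have hx1 : x = 1 := Subtype.ext hxL
    rw [hx1, orderOf_one] at hx
    exact hp.one_lt.ne hx
  have hLnorm : ∀ k ∈ Hz M z, ∀ x ∈ L, k * x * k⁻¹ ∈ L := by
    rintro k hk x ⟨hx, hxp⟩
    refine ⟨H_normalizes_M k hk x hx, ?_⟩
    have : k * x * k⁻¹ = MulAut.conj k x := rfl
    rw [this, ← map_pow, hxp, map_one]
  obtain ⟨k, hk0'⟩ := card_H_dvd fr L hLM hLnorm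
  have hk : Nat.card ↥L - 1 = hh * k := hk0'
  have hL1 : Nat.card ↥L ≠ 1 := fun h1 => hLne ((Subgroup.card_eq_one).mp h1)
  have hLpos : 0 < Nat.card ↥L := Nat.card_pos
  have hk0 : k ≠ 0 := by
    intro h0
    rw [h0, mul_zero] at hk
    omega
  have hLge : hh + 1 ≤ Nat.card ↥L := by
    have : hh * 1 ≤ hh * k := Nat.mul_le_mul_left _ (Nat.one_le_iff_ne_zero.mpr hk0)
    omega
  -- `|L|` divides `m`
  have hLdvd : Nat.card ↥L ∣ m := Subgroup.card_dvd_of_le hLM
  obtain ⟨t, ht⟩ := hLdvd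
  have hmpos : 0 < m := Nat.card_pos
  have ht1 : t = 1 := by
    have ht0 : t ≠ 0 := by
      intro h0
      rw [h0, mul_zero] at ht
      omega
    by_contra hne
    have h2 : 2 ≤ t := by omega
    have : Nat.card ↥L * 2 ≤ Nat.card ↥L * t := Nat.mul_le_mul_left _ h2
    rcases ep with ep | ep <;> omega
  rw [ht1, mul_one] at ht
  have hLeq : L = M := Subgroup.eq_of_le_of_card_ge hLM (le_of_eq ht)
  have hexp : ∀ x ∈ M, x ^ p = 1 := by
    intro x hx
    have : x ∈ L := by rw [hLeq]; exact hx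
    exact this.2
  have hpg : IsPGroup p ↥M := by
    intro x
    refine ⟨1, ?_⟩
    rw [pow_one]
    apply Subtype.ext
    have := hexp x x.2
    simpa using this
  obtain ⟨r, hr⟩ := hpg.exists_card_eq
  exact ⟨p, r, hp, hexp, hr⟩

end Cfsg.Agent.Lib.Helper36.TIInv
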