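/-
helper36: S3043 (project of helper90), module [A6] `alt3_pgl`: in Case A with `|M| = |H| + 1` the
group `G` is sharply 3-transitive on `G ⧸ N` with abelian two-point stabilizers; transport to a
permutation group on `Fin (m+1)` and apply [A6-pgl] (taken here as the hypothesis `PGLStatement`).
-/
import Mathlib
import Cfsg.Agent.Lib.Helper90.TIInvDefs
import Cfsg.Agent.Lib.Helper60.TIInvAct

set_option autoImplicit false

open Cfsg.Agent.Lib.Helper90.TIInv

namespace Cfsg.Agent.Lib.Helper36.TIInv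

/-- The statement of module [A6-pgl] (`pgl2_of_sharply3_abelian`), as a proposition. -/
def PGLStatement : Prop :=
  ∀ {α : Type} [Fintype α] [DecidableEq α] (K : Subgroup (Equiv.Perm α)),
    4 ≤ Fintype.card α → Even (Fintype.card α) →
    (∀ a b c a' b' c' : α, a ≠ b → a ≠ c → b ≠ c → a' ≠ b' → a' ≠ c' → b' ≠ c' →
      ∃ g ∈ K, g a = a' ∧ g b = b' ∧ g c = c') →
    (∀ g ∈ K, ∀ a b c : α, a ≠ b → a ≠ c → b ≠ c → g a = a → g b = b → g c = c → g = 1) →
    (∀ a b : α, a ≠ b → ∀ g ∈ K, ∀ g' ∈ K, g a = a → g b = b → g' a = a → g' b = b →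
      g * g' = g' * g) →
    ∃ (F : Type) (_ : Field F) (_ : Fintype F), Fintype.card F + 1 = Fintype.card α ∧
      Nonempty (K ≃* Matrix.ProjGenLinGroup (Fin 2) F)

/-- Transport: a faithful sharply 3-transitive action of `G` on a finite set `Ω` with abelian
two-point stabilizers gives `G ≃* PGL₂(F)`, `|F| + 1 = |Ω|`. -/
theorem transport_sharply3 (PGL : PGLStatement) {G : Type*} [Group G] {Ω : Type*}
    [MulAction G Ω] [Finite Ω]
    (hf : FaithfulSMul G Ω) (hcard : 4 ≤ Nat.card Ω) (hev : Even (Nat.card Ω))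
    (T3 : ∀ a b c a' b' c' : Ω, a ≠ b → a ≠ c → b ≠ c → a' ≠ b' → a' ≠ c' → b' ≠ c' →
      ∃ g : G, g • a = a' ∧ g • b = b' ∧ g • c = c')
    (S3 : ∀ g : G, ∀ a b c : Ω, a ≠ b → a ≠ c → b ≠ c → g • a = a → g • b = b → g • c = c →
      g = 1)
    (hab : ∀ a b : Ω, a ≠ b → ∀ g g' : G, g • a = a → g • b = b → g' • a = a → g' • b = b →
      g * g' = g' * g) :
    ∃ (F : Type) (_ : Field F) (_ : Fintype F), Fintype.card F + 1 = Nat.card Ω ∧
      Nonempty (G ≃* Matrix.ProjGenLinGroup (Fin 2) F) := by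
  classical
  set n := Nat.card Ω with hn
  let e : Ω ≃ Fin n := Finite.equivFin Ω
  let φ : G →* Equiv.Perm (Fin n) :=
    (e.permCongrHom.toMonoidHom).comp (MulAction.toPermHom G Ω)
  have hφ : ∀ (g : G) (i : Fin n), φ g i = e (g • e.symm i) := fun g i => rfl
  have hφinj : Function.Injective φ := by
    intro g g' hgg
    apply MulAction.toPerm_injective (α := G) (β := Ω)
    have := e.permCongrHom.injective hgg
    exact this
  have hne : ∀ {i j : Fin n}, i ≠ j → e.symm i ≠ e.symm j := fun hij hh =>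
    hij (e.symm.injective hh)
  have hfix : ∀ (g : G) (i : Fin n), φ g i = i → g • e.symm i = e.symm i := by
    intro g i hgi
    rw [hφ] at hgi
    have := congrArg e.symm hgi
    simpa using this
  obtain ⟨F, hF, hFt, hFc, ⟨ι⟩⟩ := @PGL (Fin n) _ _ φ.range (by simpa using hcard)
    (by simpa using hev)
    (by
      intro a b c a' b' c' h1 h2 h3 h1' h2' h3'
      obtain ⟨g, ga, gb, gc⟩ := T3 _ _ _ _ _ _ (hne h1) (hne h2) (hne h3) (hne h1') (hne h2')
        (hne h3')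
      refine ⟨φ g, ⟨g, rfl⟩, ?_, ?_, ?_⟩
      · rw [hφ, ga]; simp
      · rw [hφ, gb]; simp
      · rw [hφ, gc]; simp)
    (by
      rintro _ ⟨g, rfl⟩ a b c h1 h2 h3 ga gb gc
      rw [S3 g _ _ _ (hne h1) (hne h2) (hne h3) (hfix g a ga) (hfix g b gb) (hfix g c gc),
        map_one])
    (by
      rintro a b h1 _ ⟨g, rfl⟩ _ ⟨g', rfl⟩ ga gb ga' gb'
      rw [← map_mul, ← map_mul, hab _ _ (hne h1) g g' (hfix g a ga) (hfix g b gb)
        (hfix g' a ga') (hfix g' b gb')])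
  refine ⟨F, hF, hFt, by simpa using hFc, ⟨(MonoidHom.ofInjective hφinj).trans ι⟩⟩


open Cfsg.Agent.Lib.Helper60.TIInv in
/-- The action of `G` on `G ⧸ N` is sharply 3-transitive with abelian two-point stabilizers. -/
theorem sharply3_of_frob {G : Type*} [Group G] [Finite G] {M : Subgroup G} {z : G}
    (s : Semi M) (cz : CzFacts M z)
    (r : Reg M) (fr : Frob M z) (hc : HComm M z)
    (ht : MulAction.IsMultiplyPretransitive G (G ⧸ Nm M) 2)
    (hm : Nat.card M = Nat.card (Hz M z) + 1) :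
    (∀ a b c a' b' c' : G ⧸ Nm M, a ≠ b → a ≠ c → b ≠ c → a' ≠ b' → a' ≠ c' → b' ≠ c' →
      ∃ g : G, g • a = a' ∧ g • b = b' ∧ g • c = c') ∧
    (∀ g : G, ∀ a b c : G ⧸ Nm M, a ≠ b → a ≠ c → b ≠ c → g • a = a → g • b = b → g • c = c →
      g = 1) ∧
    (∀ a b : G ⧸ Nm M, a ≠ b → ∀ g g' : G, g • a = a → g • b = b → g' • a = a → g' • b = b →
      g * g' = g' * g) := by
  classical
  obtain ⟨c, hcC, hcN⟩ := cz.ex
  have h2t : ∀ {a b c d : G ⧸ Nm M}, a ≠ b → c ≠ d → ∃ g : G, g • a = c ∧ g • b = d :=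
    MulAction.is_two_pretransitive_iff.1 ht
  set α : G ⧸ Nm M := ((1 : G) : G ⧸ Nm M) with hα
  set β : G ⧸ Nm M := (c : G ⧸ Nm M) with hβ
  have hαβ : α ≠ β := by
    intro hh
    apply hcN
    have := coset_eq_iff.1 hh
    simpa using this
  -- the stabilizer of `α, β` is `H`
  have stabH : ∀ k : G, k • α = α → k • β = β → k ∈ Hz M z := by
    intro k kα kβ
    rw [← cz.stab c hcC hcN]
    exact Subgroup.mem_inf.2 ⟨smul_one_coset_iff.1 kα, smul_coset_self_iff.1 kβ⟩
  have Hstab : ∀ k ∈ Hz M z, k • α = α ∧ k • β = β := by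
    intro k hk
    rw [← cz.stab c hcC hcN] at hk
    exact ⟨smul_one_coset_iff.2 (Subgroup.mem_inf.1 hk).1,
      smul_coset_self_iff.2 (Subgroup.mem_inf.1 hk).2⟩
  -- `M` is regular off `α`
  have Mtr : ∀ ω : G ⧸ Nm M, ω ≠ α → ∃ a ∈ M, a • β = ω := by
    intro ω
    induction ω using QuotientGroup.induction_on with | H g => ?_
    intro hg
    have hg' : g ∉ Nm M := by
      intro hh
      apply hg
      rw [hα]
      exact (coset_eq_iff.2 (by simpa using hh)).symm
    obtain ⟨a, ha, haN⟩ := r c g hcN hg'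
    exact ⟨a, ha, smul_coset_eq_iff.2 haN⟩
  have Msr : ∀ a ∈ M, ∀ ω : G ⧸ Nm M, ω ≠ α → a • ω = ω → a = 1 := by
    intro a ha ω hω hfix
    refine cjM_semireg s 1 a (mem_cj_iff.2 (by simpa using ha)) ω hω hfix
  have Mα : ∀ a ∈ M, a • α = α := fun a ha => smul_one_coset_iff.2 (M_le_Nm M ha)
  -- conjugation and the action
  have conj_smul : ∀ k ∈ Hz M z, ∀ a : G, k • a • β = (k * a * k⁻¹) • β := by
    intro k hk a
    have kβ' : k⁻¹ • β = β := by rw [inv_smul_eq_iff, (Hstab k hk).2]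
    rw [mul_smul, mul_smul, kβ']
  -- base S3
  have S3b : ∀ k : G, k • α = α → k • β = β → ∀ γ : G ⧸ Nm M, γ ≠ α → γ ≠ β → k • γ = γ →
      k = 1 := by
    intro k kα kβ γ hγα hγβ kγ
    have hk := stabH k kα kβ
    obtain ⟨a, ha, rfl⟩ := Mtr γ hγα
    have ha1 : a ≠ 1 := by
      rintro rfl
      exact hγβ (one_smul _ _)
    have hkN : k ∈ Nm M := (Subgroup.mem_inf.1 hk).1
    have hconj : k * a * k⁻¹ ∈ M := conj_mem_of_mem_Nm hkN ha
    rw [conj_smul k hk a] at kγ
    have ht1 : a⁻¹ * (k * a * k⁻¹) = 1 := by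
      apply Msr _ (M.mul_mem (M.inv_mem ha) hconj) β hαβ.symm
      rw [mul_smul, kγ, ← mul_smul, inv_mul_cancel, one_smul]
    have hcomm : k * a = a * k := by
      have h2 : k * a * k⁻¹ = a := by
        calc k * a * k⁻¹ = a * (a⁻¹ * (k * a * k⁻¹)) := by group
          _ = a := by rw [ht1, mul_one]
      calc k * a = (k * a * k⁻¹) * k := by group
        _ = a * k := by rw [h2]
    exact fr a ha ha1 k hk hcomm
  -- base T3
  have T3b : ∀ γ γ' : G ⧸ Nm M, γ ≠ α → γ ≠ β → γ' ≠ α → γ' ≠ β →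
      ∃ k ∈ Hz M z, k • γ = γ' := by
    intro γ γ' hγα hγβ hγ'α hγ'β
    obtain ⟨a, ha, rfl⟩ := Mtr γ hγα
    obtain ⟨a', ha', rfl⟩ := Mtr γ' hγ'α
    have ha1 : a ≠ 1 := by
      rintro rfl
      exact hγβ (one_smul _ _)
    have ha'1 : a' ≠ 1 := by
      rintro rfl
      exact hγ'β (one_smul _ _)
    -- the orbit map `Option H → M`
    let f : Option (Hz M z) → M := fun o =>
      match o with
      | none => 1
      | some k => ⟨(k : G) * a * (k : G)⁻¹,
          conj_mem_of_mem_Nm (Subgroup.mem_inf.1 k.2).1 ha⟩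
    have hfinj : Function.Injective f := by
      intro o o' hoo
      match o, o' with
      | none, none => rfl
      | none, some k =>
        exfalso
        have h1 : (1 : G) = (k : G) * a * (k : G)⁻¹ := congrArg Subtype.val hoo
        apply ha1
        calc a = (k : G)⁻¹ * ((k : G) * a * (k : G)⁻¹) * (k : G) := by group
          _ = 1 := by rw [← h1]; group
      | some k, none =>
        exfalso
        have h1 : (k : G) * a * (k : G)⁻¹ = (1 : G) := congrArg Subtype.val hoo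
        apply ha1
        calc a = (k : G)⁻¹ * ((k : G) * a * (k : G)⁻¹) * (k : G) := by group
          _ = 1 := by rw [h1]; group
      | some k, some k' =>
        have h1 : (k : G) * a * (k : G)⁻¹ = (k' : G) * a * (k' : G)⁻¹ :=
          congrArg Subtype.val hoo
        have h2 : ((k' : G)⁻¹ * (k : G)) * a = a * ((k' : G)⁻¹ * (k : G)) := by
          calc ((k' : G)⁻¹ * (k : G)) * a
              = (k' : G)⁻¹ * ((k : G) * a * (k : G)⁻¹) * (k : G) := by group
            _ = (k' : G)⁻¹ * ((k' : G) * a * (k' : G)⁻¹) * (k : G) := by rw [h1]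
            _ = a * ((k' : G)⁻¹ * (k : G)) := by group
        have h3 := fr a ha ha1 _ ((Hz M z).mul_mem ((Hz M z).inv_mem k'.2) k.2) h2
        have h4 : (k : G) = (k' : G) := by
          calc (k : G) = (k' : G) * ((k' : G)⁻¹ * (k : G)) := by group
            _ = (k' : G) := by rw [h3, mul_one]
        exact congrArg some (Subtype.ext h4)
    have hfbij : Function.Bijective f := by
      apply hfinj.bijective_of_nat_card_le
      rw [Finite.card_option, hm]
    obtain ⟨o, ho⟩ := hfbij.2 ⟨a', ha'⟩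
    match o, ho with
    | none, ho =>
      exfalso
      apply ha'1
      exact (congrArg Subtype.val ho).symm
    | some k, ho =>
      have h1 : (k : G) * a * (k : G)⁻¹ = a' := congrArg Subtype.val ho
      exact ⟨k, k.2, by rw [conj_smul k k.2 a, h1]⟩
  refine ⟨?_, ?_, ?_⟩
  · intro a b c' a' b' c'' h1 h2 h3 h1' h2' h3'
    obtain ⟨g₁, g₁a, g₁b⟩ := h2t h1 hαβ
    obtain ⟨g₂, g₂a, g₂b⟩ := h2t h1' hαβ
    have e1 : g₁ • c' ≠ α := by
      rw [← g₁a]; exact fun hh => h2 (MulAction.injective g₁ hh).symm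
    have e2 : g₁ • c' ≠ β := by
      rw [← g₁b]; exact fun hh => h3 (MulAction.injective g₁ hh).symm
    have e3 : g₂ • c'' ≠ α := by
      rw [← g₂a]; exact fun hh => h2' (MulAction.injective g₂ hh).symm
    have e4 : g₂ • c'' ≠ β := by
      rw [← g₂b]; exact fun hh => h3' (MulAction.injective g₂ hh).symm
    obtain ⟨k, hk, hkγ⟩ := T3b _ _ e1 e2 e3 e4
    refine ⟨g₂⁻¹ * k * g₁, ?_, ?_, ?_⟩
    · rw [mul_smul, mul_smul, g₁a, (Hstab k hk).1, inv_smul_eq_iff, g₂a]
    · rw [mul_smul, mul_smul, g₁b, (Hstab k hk).2, inv_smul_eq_iff, g₂b]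
    · rw [mul_smul, mul_smul, hkγ, inv_smul_smul]
  · intro g a b c' h1 h2 h3 ga gb gc
    obtain ⟨g₁, g₁a, g₁b⟩ := h2t h1 hαβ
    have e1 : g₁ • c' ≠ α := by
      rw [← g₁a]; exact fun hh => h2 (MulAction.injective g₁ hh).symm
    have e2 : g₁ • c' ≠ β := by
      rw [← g₁b]; exact fun hh => h3 (MulAction.injective g₁ hh).symm
    have key : g₁ * g * g₁⁻¹ = 1 := by
      apply S3b _ ?_ ?_ (g₁ • c') e1 e2 ?_
      · rw [mul_smul, mul_smul, ← g₁a, inv_smul_smul, ga]
      · rw [mul_smul, mul_smul, ← g₁b, inv_smul_smul, gb]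
      · rw [mul_smul, mul_smul, inv_smul_smul, gc]
    calc g = g₁⁻¹ * (g₁ * g * g₁⁻¹) * g₁ := by group
      _ = 1 := by rw [key]; group
  · intro a b h1 g g' ga gb ga' gb'
    obtain ⟨g₁, g₁a, g₁b⟩ := h2t h1 hαβ
    have m1 : g₁ * g * g₁⁻¹ ∈ Hz M z := by
      apply stabH
      · rw [mul_smul, mul_smul, ← g₁a, inv_smul_smul, ga]
      · rw [mul_smul, mul_smul, ← g₁b, inv_smul_smul, gb]
    have m2 : g₁ * g' * g₁⁻¹ ∈ Hz M z := by
      apply stabH
      · rw [mul_smul, mul_smul, ← g₁a, inv_smul_smul, ga']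
      · rw [mul_smul, mul_smul, ← g₁b, inv_smul_smul, gb']
    have := hc _ m1 _ m2
    calc g * g' = g₁⁻¹ * ((g₁ * g * g₁⁻¹) * (g₁ * g' * g₁⁻¹)) * g₁ := by group
      _ = g₁⁻¹ * ((g₁ * g' * g₁⁻¹) * (g₁ * g * g₁⁻¹)) * g₁ := by rw [this]
      _ = g' * g := by group


/-- [A6] relative to [A6-pgl]. -/
theorem alt3_pgl_of (PGL : PGLStatement) {G : Type*} [Group G] [Finite G] {M : Subgroup G}
    {z : G} (_h : Hyp M z) (b : Basic M z) (_i : InvN M z) (s : Semi M) (cz : CzFacts M z)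
    (r : Reg M) (fr : Frob M z) (hc : HComm M z) (hf : FaithfulSMul G (G ⧸ Nm M))
    (ht : MulAction.IsMultiplyPretransitive G (G ⧸ Nm M) 2)
    (hidx : (Nm M).index = Nat.card M + 1) (hm : Nat.card M = Nat.card (Hz M z) + 1)
    (ea : ∃ p r : ℕ, p.Prime ∧ (∀ x ∈ M, x ^ p = 1) ∧ Nat.card M = p ^ r) : Alt3 G M := by
  classical
  obtain ⟨T3, S3, hab⟩ := sharply3_of_frob s cz r fr hc ht hm
  have hΩ : Nat.card (G ⧸ Nm M) = Nat.card M + 1 := hidx
  have hHpos : 0 < Nat.card (Hz M z) := Nat.card_pos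
  have hm3 : 3 ≤ Nat.card M := by
    obtain ⟨k, hk⟩ := b.oddM
    omega
  obtain ⟨F, hF, hFt, hFc, ⟨ι⟩⟩ := transport_sharply3 PGL hf (by rw [hΩ]; omega)
    (by rw [hΩ]; exact b.oddM.add_one) T3 S3 hab
  obtain ⟨p, r', hp, hexp, hmr⟩ := ea
  have hcardF : Fintype.card F = Nat.card M := by rw [hΩ] at hFc; omega
  have hchar : CharP F p := by
    have := ringChar.charP F
    obtain ⟨n, hq, hn⟩ := FiniteField.card F (ringChar F)
    have h1 : ringChar F ∣ p ^ r' := by
      rw [← hmr, ← hcardF, hn]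
      exact dvd_pow_self _ n.ne_zero
    have h2 : ringChar F = p := (Nat.prime_dvd_prime_iff_eq hq hp).1 (hq.dvd_of_dvd_pow h1)
    rw [← h2]
    infer_instance
  refine ⟨F, hF, hFt, p, ⟨hp⟩, hchar, hcardF,
    ⟨⟨⟨fun x y => Subtype.ext (b.comm x x.2 y y.2)⟩⟩, hexp⟩, Or.inl ⟨ι⟩⟩

end Cfsg.Agent.Lib.Helper36.TIInv
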