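/-
helper36: S3043 (project of helper90), module [A6] `alt3_pgl`, exact sheet statement:
`alt3_pgl_of` (Lib/Helper36/TIInv/ModA6.lean) applied to helper59's [A6-pgl]
`pgl2_of_sharply3_abelian`.
-/
import Mathlib
import Cfsg.Agent.Lib.Helper90.TIInvDefs
import Cfsg.Agent.Lib.Helper36.TIInv.ModA6
import Cfsg.Agent.Lib.Helper59.TIInvA6pgl

set_option autoImplicit false

open Cfsg.Agent.Lib.Helper90.TIInv

namespace Cfsg.Agent.Lib.Helper36.TIInv

/-- [A6-pgl] in the form used by `alt3_pgl_of`. -/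
theorem pglStatement : PGLStatement := by
  intro α _ _ K h1 h2 h3 h4 h5
  exact Cfsg.Agent.Lib.Helper59.TIInvA6pgl.pgl2_of_sharply3_abelian K h1 h2 h3 h4 h5

variable {G : Type*} [Group G] [Finite G] {M : Subgroup G} {z : G}

/-- [A6] -/
theorem alt3_pgl (h : Hyp M z) (b : Basic M z) (i : InvN M z) (s : Semi M) (cz : CzFacts M z)
    (r : Reg M) (fr : Frob M z) (hc : HComm M z) (hf : FaithfulSMul G (G ⧸ Nm M))
    (ht : MulAction.IsMultiplyPretransitive G (G ⧸ Nm M) 2)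
    (hidx : (Nm M).index = Nat.card M + 1)
    (hm : Nat.card M = Nat.card (Hz M z) + 1)
    (ea : ∃ p r : ℕ, p.Prime ∧ (∀ x ∈ M, x ^ p = 1) ∧ Nat.card M = p ^ r) : Alt3 G M :=
  alt3_pgl_of pglStatement h b i s cz r fr hc hf ht hidx hm ea

end Cfsg.Agent.Lib.Helper36.TIInv
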