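import Mathlib
import Cfsg.Agent.Lib.Helper90.TIInvDefs

/-!
# S3043 module [A1f] `faithful` (for helper90)
-/

set_option autoImplicit false

namespace Cfsg.Agent.Lib.Helper36.TIInv

open Cfsg.Agent.Lib.Helper90.TIInv

variable {G : Type*} [Group G] [Finite G] {M : Subgroup G} {z : G}

omit [Finite G] in
/-- some conjugate of `z` lies outside `N` (else `M` would be normal) -/
theorem exists_conj_not_mem (h : Hyp M z) (b : Basic M z) (i : InvN M z) :
    ∃ g : G, g * z * g⁻¹ ∉ Nm M := by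
  by_contra hall
  simp only [not_exists, not_not] at hall
  apply h.nn
  have hzz : z * z = 1 := by
    have := pow_orderOf_eq_one z
    rw [h.hz, pow_two] at this
    exact this
  have hconjord : ∀ g : G, orderOf (g * z * g⁻¹) = 2 := by
    intro g
    have : g * z * g⁻¹ = MulAut.conj g z := rfl
    rw [this, MulEquiv.orderOf_eq]
    exact h.hz
  constructor
  intro x hx g
  obtain ⟨c, hc, hxc⟩ := i.conj x hx
  -- `x = (c z c⁻¹) z`
  have hx1 : x = (c * z * c⁻¹) * z := by
    rw [← hxc, mul_assoc, hzz, mul_one]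
  have h1 : g * x * g⁻¹ = ((g * c) * z * (g * c)⁻¹) * (g * z * g⁻¹) := by
    rw [hx1]; group
  obtain ⟨a₁, ha₁, e₁⟩ := i.invs _ (hall (g * c)) (hconjord (g * c))
  obtain ⟨a₂, ha₂, e₂⟩ := i.invs _ (hall g) (hconjord g)
  rw [h1, e₁, e₂]
  have hzinv : z⁻¹ = z := inv_eq_of_mul_eq_one_right hzz
  have h2 : a₁ * z * (a₂ * z) = a₁ * (z * a₂ * z⁻¹) := by
    rw [hzinv]; group
  rw [h2, b.inv a₂ ha₂]
  exact M.mul_mem ha₁ (M.inv_mem ha₂)

set_option linter.unusedSectionVars false in
set_option linter.unusedVariables false in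
/-- [A1f] -/
theorem faithful (h : Hyp M z) (b : Basic M z) (i : InvN M z) (s : Semi M) (d : DInv M)
    (f : Full M) (cz : CzFacts M z) : FaithfulSMul G (G ⧸ Nm M) := by
  constructor
  intro k₁ k₂ hk
  obtain ⟨g, hu⟩ := exists_conj_not_mem h b i
  set u := g * z * g⁻¹ with hudef
  have huord : orderOf u = 2 := by
    have : u = MulAut.conj g z := rfl
    rw [this, MulEquiv.orderOf_eq]
    exact h.hz
  set k := k₁⁻¹ * k₂ with hkdef
  -- `k` lies in every conjugate of `N`
  have hP : ∀ a : G, a⁻¹ * k * a ∈ Nm M := by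
    intro a
    have h1 := hk (QuotientGroup.mk a)
    have h2 : (QuotientGroup.mk (k₁ * a) : G ⧸ Nm M) = QuotientGroup.mk (k₂ * a) := h1
    rw [QuotientGroup.eq] at h2
    have h3 : a⁻¹ * k * a = (k₁ * a)⁻¹ * (k₂ * a) := by rw [hkdef]; group
    rw [h3]
    exact h2
  have hPc : ∀ a : G, k ∈ cj a (Nm M) := by
    intro a
    refine ⟨a⁻¹ * k * a, hP a, ?_⟩
    show a * (a⁻¹ * k * a) * a⁻¹ = k
    group
  have hkN : k ∈ Nm M := by
    have := hP 1
    simpa using this
  -- all conjugates of `k` lie in `H`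
  obtain ⟨c, hcC, hcN⟩ := cz.ex
  have hstab := cz.stab c hcC hcN
  have hconjH : ∀ a : G, a⁻¹ * k * a ∈ Hz M z := by
    intro a
    rw [← hstab]
    refine ⟨hP a, ?_⟩
    refine ⟨c⁻¹ * (a⁻¹ * k * a) * c, ?_, ?_⟩
    · have := hP (a * c)
      have e : (a * c)⁻¹ * k * (a * c) = c⁻¹ * (a⁻¹ * k * a) * c := by group
      rw [← e]
      exact this
    · show c * (c⁻¹ * (a⁻¹ * k * a) * c) * c⁻¹ = _
      group
  have hkH : k ∈ Hz M z := by
    have := hconjH 1
    simpa using this
  -- `k` commutes with `u`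
  have hcomm : k * u = u * k := by
    have h1 : g⁻¹ * k * g ∈ Cz z := (hconjH g).2
    have h2 := Subgroup.mem_centralizer_singleton_iff.mp h1
    calc k * u = g * ((g⁻¹ * k * g) * z) * g⁻¹ := by rw [hudef]; group
      _ = g * (z * (g⁻¹ * k * g)) * g⁻¹ := by rw [h2]
      _ = u * k := by rw [hudef]; group
  -- `u` inverts `k`
  have hinv : u * k * u⁻¹ = k⁻¹ := d u huord hu k ⟨hkN, hPc u⟩
  have hksq : k * k = 1 := by
    have h1 : u * k * u⁻¹ = k := by rw [← hcomm]; group
    rw [h1] at hinv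
    calc k * k = k * k⁻¹ := by rw [← hinv]
      _ = 1 := mul_inv_cancel k
  -- `k = 1` or `k = z`
  have hk1 : k = 1 := by
    by_contra hne
    have hord : orderOf k = 2 := by
      apply orderOf_eq_prime
      · rw [pow_two]; exact hksq
      · exact hne
    have hkz : k = z := i.zuniq k hkH hord
    apply hu
    have := hP g⁻¹
    rw [hkz] at this
    simpa [hudef] using this
  rw [hkdef] at hk1
  calc k₁ = k₁ * (k₁⁻¹ * k₂) * k₂⁻¹ * k₂ := by rw [hk1]; group
    _ = k₂ := by group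

end Cfsg.Agent.Lib.Helper36.TIInv
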